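import Cfsg.Agent.Lib.Recog.FiM22.Tuple.Check
import Cfsg.Agent.Lib.Recog.FiM22.ReadOff

set_option autoImplicit false
set_option maxRecDepth 20000

/-!
In a group of type M(22) eight members with the commuting pattern of the diagram with arms of four, three and three
nodes are the eight letters other than g under some identification with Fi22 (owner: helper13).
-/

namespace CfsgLib.Recog.FiM22.Tuple

open Cfsg CfsgLib.ThreeTrans CfsgLib.Recog.SporBound
open CfsgLib.ThreeTrans.CosetIndex (forallFrom forallFrom_elim letters relWords hom_eq_prod)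
open Cfsg.Agent.S1687 (gens)

universe u

variable {G : Type u} [Group G] [Finite G] {D : Set G}

/-- The thirteen letters, the numbering of the members and its properties. -/
structure Numbered (D : Set G) (L : ℕ → G) (pt : ℕ → G) : Prop where
  set3 : IsThreeTranspositionSet D
  sq : ∀ x, L x * L x = 1
  tab : ∀ x < 13, ∀ c < 3510, tab x c < 3510 ∧ pt (tab x c) = L x * pt c * (L x)⁻¹
  base : ∀ x < 13, basePt x < 3510 ∧ pt (basePt x) = L x
  inj : ∀ c < 3510, ∀ c' < 3510, pt c = pt c' → c = c'
  mem : ∀ d, d ∈ D ↔ ∃ c < 3510, d = pt c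

theorem exists_numbered {a : G} (B : Base D a) (hcard : D.ncard = 3510) :
    ∃ (b : G) (lab : ℕ → G) (pt : ℕ → G), Frame D a b lab ∧ Numbered D (letter a b lab) pt ∧ pt 0 = a := by
  obtain ⟨b, lab, F⟩ := exists_frame B
  obtain ⟨pt, h0, htab, hmem⟩ := exists_members B F
  refine ⟨b, lab, pt, F, ⟨B.set3, letter_sq B F, htab, base_spec B F h0 htab, ?_, hmem⟩, h0⟩
  have himg : pt '' Set.Iio 3510 = D := by
    ext d
    rw [hmem]
    exact ⟨fun ⟨c, hc, e⟩ => ⟨c, hc, e.symm⟩, fun ⟨c, hc, e⟩ => ⟨c, hc, e.symm⟩⟩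
  have hi : Set.InjOn pt (Set.Iio 3510) := Set.injOn_of_ncard_image_eq (by
    rw [himg, hcard, ← Nat.card_coe_set_eq, Nat.card_eq_fintype_card]
    simp)
  exact fun c hc c' hc' e => hi hc hc' e

namespace Numbered

variable {L : ℕ → G} {pt : ℕ → G} (N : Numbered D L pt)
include N

theorem word_lt {i : Item} (hi : itemOK i = true) : ∀ x ∈ iW i, x < 13 := by
  simp only [itemOK, Bool.and_eq_true, List.all_eq_true] at hi
  intro x hx
  simp only [iW, List.mem_append, List.mem_cons, List.mem_reverse] at hx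
  rcases hx with h | rfl | h
  · simpa using hi.2 x h
  · simpa using hi.1
  · simpa using hi.2 x h

theorem ipt_spec {i : Item} (hi : itemOK i = true) :
    ipt i < 3510 ∧ pt (ipt i) = ((iW i).map L).prod := by
  simp only [itemOK, Bool.and_eq_true, List.all_eq_true] at hi
  obtain ⟨hb, hp⟩ := N.base i.2 (by simpa using hi.1)
  obtain ⟨h1, h2⟩ := trW_lt N.tab (w := i.1) (fun x hx => by simpa using hi.2 x hx) _ hb
  refine ⟨h1, h2.trans ?_⟩
  rw [hp, iW, List.map_append, List.prod_append, List.map_cons, List.prod_cons,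
    CfsgLib.ThreeTrans.CosetIndex.prod_reverse_eq_inv L N.sq, mul_assoc]

theorem conj_item {i : Item} (hi : itemOK i = true) {c : ℕ} (hc : c < 3510) :
    trW (iW i) c < 3510 ∧ pt (trW (iW i) c) = pt (ipt i) * pt c * (pt (ipt i))⁻¹ := by
  obtain ⟨h1, h2⟩ := trW_lt N.tab (word_lt N hi) _ hc
  exact ⟨h1, by rw [h2, (N.ipt_spec hi).2]⟩

theorem commute_item {i : Item} (hi : itemOK i = true) {c : ℕ} (hc : c < 3510) :
    Commute (pt (ipt i)) (pt c) ↔ trW (iW i) c = c := by
  obtain ⟨h1, h2⟩ := N.conj_item hi hc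
  constructor
  · intro h
    refine N.inj _ h1 _ hc ?_
    rw [h2, h.eq, mul_inv_cancel_right]
  · intro e
    rw [e] at h2
    exact mul_inv_eq_iff_eq_mul.1 h2.symm

/-- Some conjugation carries the first members of the tuple onto those of the prefix. -/
def Matched (_N : Numbered D L pt) (t : ℕ → G) (pre : List Item) : Prop :=
  ∃ g : G, ∀ j < pre.length, g * t j * g⁻¹ = pt (ipt (item pre j))

theorem step {t : ℕ → G} (hgrp : ∀ g : G, ∀ d ∈ D, g * d * g⁻¹ ∈ D) (ht : ∀ i < 8, t i ∈ D)
    (hpat : ∀ i < 8, ∀ j < 8, Commute (t i) (t j) ↔ adjT i j = false)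
    (hdist : ∀ i < 8, ∀ j < 8, t i = t j → i = j)
    {T : TNode} (hT : nodeOK T = true) (hk : T.pre.length < 8) (hM : N.Matched t T.pre) :
    ∃ r ∈ T.roots, N.Matched t (T.pre ++ [r]) := by
  obtain ⟨g, hg⟩ := hM
  simp only [nodeOK, headOK, Bool.and_eq_true, List.all_eq_true] at hT
  obtain ⟨⟨hpre, hroots, hgens, hfix⟩, hent, hcov⟩ := hT
  set k := T.pre.length with hkdef
  have hitem : ∀ j < k, itemOK (item T.pre j) = true := fun j hj => hpre _ (by
    rw [item, List.getD_eq_getElem _ _ hj]; exact List.getElem_mem hj)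
  obtain ⟨c, hc, hce⟩ := (N.mem _).1 (hgrp g _ (ht k hk))
  have hcand : cand T.pre c = true := by
    simp only [cand, List.all_eq_true, List.mem_range, Bool.and_eq_true, Bool.not_eq_true', beq_iff_eq]
    intro j hj
    have hjk : j < k := hj
    have e := N.commute_item (hitem j hjk) hc
    rw [← hg j hjk, ← hce, commute_conj_iff, hpat j (by omega) k hk] at e
    refine ⟨?_, ?_⟩
    · cases h : adjT j k with
      | true =>
        rw [h] at e
        exact Bool.eq_false_iff.2 fun e' => Bool.noConfusion (e.2 (Nat.eq_of_beq_eq_true e'))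
      | false =>
        rw [h] at e
        show Nat.beq _ _ = !false
        rw [e.1 rfl, Bool.not_false]
        exact Nat.beq_refl _
    · refine Bool.eq_false_iff.2 fun e' => ?_
      have hcj : c = ipt (item T.pre j) := Nat.eq_of_beq_eq_true e'
      have : t j = t k := by
        have h2 := hg j hjk
        rw [← hcj, ← hce] at h2
        exact mul_left_cancel (mul_right_cancel h2)
      exact absurd (hdist j (by omega) k hk this) (by omega)
  have hcv := forallFrom_elim hcov (i := c) (Nat.zero_le _) (by omega)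
  simp only [covOK, hcand, cond_true, Bool.and_eq_true, Nat.beq_eq] at hcv
  obtain ⟨hposlt, hposc⟩ := hcv
  have hposlt' : getP T.pos c < T.size := by simpa using hposlt
  -- every entry of the forest is carried to its root fixing the prefix
  have hforest : ∀ i < T.size, getP T.entC i < 3510 ∧ ∃ r ∈ T.roots, ∃ h : G,
      (∀ j < k, h * pt (ipt (item T.pre j)) * h⁻¹ = pt (ipt (item T.pre j))) ∧
        h * pt (getP T.entC i) * h⁻¹ = pt (ipt r) := by
    intro i
    induction i using Nat.strong_induction_on with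
    | _ i ih =>
      intro hi
      have h := forallFrom_elim hent (i := i) (Nat.zero_le _) (by omega)
      unfold entOK at h
      cases hr : Nat.beq (getP T.entJ i) T.gens.length with
      | true =>
        rw [hr, cond_true] at h
        simp only [Bool.and_eq_true, Nat.beq_eq] at h
        have hlt : getP T.entP i < T.roots.length := by simpa using h.1
        have hm : item T.roots (getP T.entP i) ∈ T.roots := by
          rw [item, List.getD_eq_getElem _ _ hlt]; exact List.getElem_mem hlt
        refine ⟨h.2 ▸ (N.ipt_spec (hroots _ hm)).1, _, hm, 1, fun j _ => by simp, ?_⟩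
        rw [h.2]; simp
      | false =>
        rw [hr, cond_false] at h
        simp only [Bool.and_eq_true, Nat.beq_eq] at h
        obtain ⟨hj, hp, he⟩ := h
        have hj' : getP T.entJ i < T.gens.length := by simpa using hj
        have hp' : getP T.entP i < i := by simpa using hp
        set s := item T.gens (getP T.entJ i) with hs
        have hsm : s ∈ T.gens := by
          rw [hs, item, List.getD_eq_getElem _ _ hj']; exact List.getElem_mem hj'
        obtain ⟨hpc, r, hr', h0, h0fix, h0c⟩ := ih _ hp' (by omega)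
        obtain ⟨hq1, hq2⟩ := N.conj_item (hgens _ hsm) hpc
        refine ⟨he ▸ hq1, r, hr', h0 * (pt (ipt s))⁻¹, fun j hj => ?_, ?_⟩
        · have hpm : item T.pre j ∈ T.pre := by
            rw [item, List.getD_eq_getElem _ _ hj]; exact List.getElem_mem hj
          have hf : trW (iW s) (ipt (item T.pre j)) = ipt (item T.pre j) :=
            Nat.eq_of_beq_eq_true (hfix s hsm _ hpm)
          have hcomm := (N.commute_item (hgens _ hsm) (N.ipt_spec (hitem j hj)).1).2 hf
          calc h0 * (pt (ipt s))⁻¹ * pt (ipt (item T.pre j)) * (h0 * (pt (ipt s))⁻¹)⁻¹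
              = h0 * ((pt (ipt s))⁻¹ * pt (ipt (item T.pre j)) * pt (ipt s)) * h0⁻¹ := by group
            _ = h0 * pt (ipt (item T.pre j)) * h0⁻¹ := by rw [mul_assoc (pt (ipt s))⁻¹, ← hcomm.eq, inv_mul_cancel_left]
            _ = _ := h0fix j hj
        · rw [he, hq2, ← h0c]; group
  obtain ⟨-, r, hr, h, hfixh, hcr⟩ := hforest _ hposlt'
  refine ⟨r, hr, h * g, fun j hj => ?_⟩
  rw [List.length_append, List.length_singleton] at hj
  rcases Nat.lt_succ_iff_lt_or_eq.1 hj with hj | rfl
  · rw [item, List.getD_append _ _ _ _ hj, ← item, ← hfixh j hj, ← hg j hj]; group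
  · rw [item, List.getD_append_right _ _ _ _ (by omega), ← hkdef, Nat.sub_self,
      show ([r] : List Item).getD 0 ([], 0) = r from rfl, ← hcr, hposc, ← hce]
    group

end Numbered

omit [Finite G] in
theorem distinct_of_pattern {t : ℕ → G} (hpat : ∀ i < 8, ∀ j < 8, Commute (t i) (t j) ↔ adjT i j = false) :
    ∀ i < 8, ∀ j < 8, t i = t j → i = j := by
  intro i hi j hj e
  have key : ∀ i < 8, ∀ j < 8, (∀ k < 8, adjT i k = adjT j k) → i = j := by decide +kernel
  refine key i hi j hj fun k hk => ?_
  have h1 := hpat i hi k hk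
  have h2 := hpat j hj k hk
  rw [e, h2] at h1
  cases ha : adjT i k <;> cases hb : adjT j k <;> simp_all

/-- The positions in Fi22 of the eight members. -/
def pos8 : List ℕ := [0, 1, 2, 3, 4, 5, 7, 8]

theorem exists_iso (hD : IsThreeTranspositionGroup D) (hprim : IsPrimitiveUnderConj D) (ht : IsOfTypeM22 G D)
    {t : ℕ → G} (hmem : ∀ i < 8, t i ∈ D) (hpat : ∀ i < 8, ∀ j < 8, Commute (t i) (t j) ↔ adjT i j = false) :
    ∃ e : Spor.Fi22 ≃* G, e '' conjugatesOf (Fi22Group.a 0) = D ∧
      ∀ x ∈ pos8, ∃ j < 8, e (Fi22Group.a x) = t j := by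
  obtain ⟨a, ⟨B⟩⟩ := exists_base hD hprim ht
  obtain ⟨b, lab, pt, F, N, h0⟩ := exists_numbered B (card_class hD hprim ht)
  set L := letter a b lab with hL
  have hdist := distinct_of_pattern hpat
  -- a matched leaf
  have main : ∀ k, 1 ≤ k → k ≤ 8 → ∃ pre, pre.length = k ∧ N.Matched t pre ∧
      (pre ∈ nodes.map (·.pre) ∨ pre ∈ leaves.map (·.1)) := by
    intro k h1
    induction k, h1 using Nat.le_induction with
    | base =>
      intro _
      obtain ⟨g, hg⟩ := hprim.1 (t 0) (hmem 0 (by norm_num)) a B.mem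
      refine ⟨node0.pre, by rw [start_checked]; rfl, ⟨g, fun j hj => ?_⟩, Or.inl (by simp [nodes])⟩
      rw [start_checked] at hj ⊢
      obtain rfl : j = 0 := by simpa using hj
      rw [hg]
      refine Eq.trans ?_ (congrArg pt (show (0 : ℕ) = ipt (item [([], 0)] 0) from rfl))
      exact h0.symm
    | succ k hk ih =>
      intro hk8
      obtain ⟨pre, hlen, hM, hin⟩ := ih (by omega)
      rcases hin with hin | hin
      · obtain ⟨T, hT, rfl⟩ := List.mem_map.1 hin
        have hTok : nodeOK T = true := by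
          rw [show nodes = node0 :: nodes.drop 1 from rfl, List.mem_cons] at hT
          rcases hT with rfl | hT
          · exact node_checked_0
          · exact List.all_eq_true.1 node_checked_small T hT
        obtain ⟨r, hr, hM'⟩ := N.step hD.2.1 hmem hpat hdist hTok (by omega) hM
        have h := List.all_eq_true.1 (List.all_eq_true.1 tree_checked T hT) r hr
        exact ⟨T.pre ++ [r], by simp [hlen], hM', by simpa using h⟩
      · obtain ⟨l, hl, rfl⟩ := List.mem_map.1 hin
        have := Nat.eq_of_beq_eq_true (List.all_eq_true.1 length_checked.2 l hl)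
        omega
  obtain ⟨pre, hlen, ⟨g, hg⟩, hin⟩ := main 8 (by norm_num) le_rfl
  have hin' : pre ∈ leaves.map (·.1) := by
    refine hin.resolve_left fun h => ?_
    obtain ⟨T, hT, rfl⟩ := List.mem_map.1 h
    have := List.all_eq_true.1 length_checked.1 T hT
    simp [hlen] at this
  obtain ⟨⟨pre', nine, σ⟩, hl, rfl⟩ := List.mem_map.1 hin'
  have hok := List.all_eq_true.1 leaf_checked _ hl
  simp only [leafOK, Bool.and_eq_true, List.all_eq_true, Bool.or_eq_true, List.mem_range] at hok
  obtain ⟨hnine, hover, hlen9, hrels⟩ := hok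
  have hlen9' : nine.length = 9 := Nat.eq_of_beq_eq_true hlen9
  have hitem : ∀ x < 9, itemOK (item nine x) = true := fun x hx => hnine _ (by
    rw [item, List.getD_eq_getElem _ _ (by omega)]; exact List.getElem_mem _)
  let M : ℕ → G := fun x => if x < 9 then pt (ipt (item nine x)) else 1
  have hM : ∀ x < 9, M x = ((iW (item nine x)).map L).prod := fun x hx => by
    simp only [M, if_pos hx, (N.ipt_spec (hitem x hx)).2]
  have hMD : ∀ x < 9, M x ∈ D := fun x hx => by
    simp only [M, if_pos hx]
    exact (N.mem _).2 ⟨_, (N.ipt_spec (hitem x hx)).1, rfl⟩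
  have hsq : ∀ x, M x * M x = 1 := fun x => by
    by_cases hx : x < 9
    · exact mul_self B.set3 (hMD x hx)
    · simp [M, hx]
  have hrel : ∀ r ∈ Spor.coxRelators Spor.Fi22.edges ∪ {r | r ∈ Spor.Fi22.extra},
      FreeGroup.lift (fun y => M (gens.idxOf y)) r = 1 := by
    intro r hr
    rw [hom_eq_prod gens (FreeGroup.lift fun y => M (gens.idxOf y)) M (fun y => FreeGroup.lift_apply_of) hsq r]
    obtain ⟨hlt, hfix⟩ := hrels _ (rel_mem hr)
    set w := letters gens r
    have hw : ∀ x ∈ w, x < 9 := fun x hx => by simpa using hlt x hx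
    have hval : ∀ v : List ℕ, (∀ x ∈ v, x < 9) →
        ((v.flatMap fun y => iW (item nine y)).map L).prod = (v.map M).prod := by
      intro v hv
      induction v with
      | nil => rfl
      | cons y v ih =>
        rw [List.flatMap_cons, List.map_append, List.prod_append, List.map_cons, List.prod_cons,
          ← hM y (hv y List.mem_cons_self), ih fun x hx => hv x (List.mem_cons_of_mem _ hx)]
    rw [← hval w hw]
    have := word_eq B F (u := w.flatMap fun y => iW (item nine y)) (w := [])
      (fun x hx => by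
        obtain ⟨y, hy, hxy⟩ := List.mem_flatMap.1 hx
        exact N.word_lt (hitem y (hw y hy)) x hxy)
      (fun x hx => absurd hx List.not_mem_nil) fun c hc => Nat.eq_of_beq_eq_true (hfix c hc)
    simpa using this
  let ψ : Spor.Fi22 →* G := PresentedGroup.toGroup hrel
  have hψ : ∀ y, ψ (PresentedGroup.of y) = M (gens.idxOf y) := fun y => PresentedGroup.toGroup.of hrel
  have hgen : ∀ x, x < 9 → ψ (Fi22Group.a x) = M x := by
    intro x hx
    obtain ⟨y, rfl⟩ : ∃ y, gens.idxOf y = x := by
      have h : ∀ x < 9, ∃ y ∈ gens, gens.idxOf y = x := by decide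
      obtain ⟨y, -, hy⟩ := h x hx
      exact ⟨y, hy⟩
    rw [Fi22Group.a, gen_of Fi22Group.nodes, hψ]
  haveI := Fi22Group.isSimple
  haveI : Finite Spor.Fi22 := (Nat.card_pos_iff.1 (by rw [Fi22Group.card_and_faithful.1]; norm_num)).2
  have hinj : Function.Injective ψ := by
    rcases ψ.normal_ker.eq_bot_or_eq_top with h | h
    · exact (MonoidHom.ker_eq_bot_iff ψ).1 h
    · exfalso
      have h1 : ψ (Fi22Group.a 0) = 1 := MonoidHom.mem_ker.1 (h ▸ Subgroup.mem_top _)
      rw [hgen 0 (by norm_num)] at h1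
      have h2 := B.set3.1 _ (hMD 0 (by norm_num))
      rw [h1, orderOf_one] at h2
      exact absurd h2 (by norm_num)
  have hbij : Function.Bijective ψ := (Nat.bijective_iff_injective_and_card _).2
    ⟨hinj, by rw [card_group hD hprim ht, Fi22Group.card_and_faithful.1]⟩
  let e₁ : Spor.Fi22 ≃* G := (MulEquiv.ofBijective ψ hbij).trans (MulAut.conj g⁻¹)
  refine ⟨e₁, ?_, fun x hx => ?_⟩
  · ext d
    have hd0 : e₁ (Fi22Group.a 0) ∈ D := by
      show g⁻¹ * ψ (Fi22Group.a 0) * g⁻¹⁻¹ ∈ D
      rw [hgen 0 (by norm_num)]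
      exact hD.2.1 _ _ (hMD 0 (by norm_num))
    constructor
    · rintro ⟨y, hy, rfl⟩
      obtain ⟨k, rfl⟩ := isConj_iff.1 hy
      rw [map_mul, map_mul, map_inv]
      exact hD.2.1 _ _ hd0
    · intro hd
      obtain ⟨k, rfl⟩ := hprim.1 _ hd0 d hd
      exact ⟨e₁.symm k * Fi22Group.a 0 * (e₁.symm k)⁻¹, isConj_iff.2 ⟨_, rfl⟩, by
        rw [map_mul, map_mul, map_inv, MulEquiv.apply_symm_apply]⟩
  · have hx9 : x < 9 ∧ x ≠ 6 := (by decide : ∀ x ∈ pos8, x < 9 ∧ x ≠ 6) x hx
    have h := (hover x hx9.1).resolve_left (by simpa using hx9.2)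
    simp only [decide_eq_true_eq] at h
    obtain ⟨hσ, hσe⟩ := h
    have hσ' : σ.getD x 0 < 8 := by simpa using hσ
    refine ⟨_, hσ', ?_⟩
    have h2 := hg _ (show σ.getD x 0 < pre'.length by rw [show pre'.length = 8 from hlen]; exact hσ')
    rw [show item pre' (σ.getD x 0) = item nine x from hσe] at h2
    show g⁻¹ * ψ (Fi22Group.a x) * g⁻¹⁻¹ = _
    rw [hgen x hx9.1]
    simp only [M, if_pos hx9.1, ← h2]
    group

end CfsgLib.Recog.FiM22.Tuple
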