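import Cfsg.Agent.Lib.Recog.FiM22.Identify

set_option autoImplicit false
set_option maxRecDepth 20000

/-!
The shape of the search tree of the eight-tuples of transpositions of Fi22 with the commuting pattern of the diagram
with arms of four, three and three nodes (owner: helper13).
-/

namespace CfsgLib.Recog.FiM22.Tuple

open CfsgLib.ThreeTrans.CosetIndex (forallFrom letters relWords)

/-- A member given as the conjugate of a letter by a word. -/
abbrev Item : Type := List ℕ × ℕ

/-- A node: a prefix, the representatives of the next position, members fixing the prefix and an orbit forest. -/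
structure TNode where
  pre : List Item
  roots : List Item
  gens : List Item
  size : ℕ
  entC : ℕ
  entJ : ℕ
  entP : ℕ
  pos : ℕ

/-- The word of a member. -/
def iW (i : Item) : List ℕ := i.1 ++ i.2 :: i.1.reverse

/-- The coset of a member. -/
noncomputable def ipt (i : Item) : ℕ := trW i.1 (basePt i.2)

/-- The letters of a member are letters. -/
noncomputable def itemOK (i : Item) : Bool := Nat.blt i.2 13 && i.1.all fun x => Nat.blt x 13

/-- An item of a list. -/
def item (l : List Item) (j : ℕ) : Item := l.getD j ([], 0)

/-- The positions joined in the diagram. -/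
noncomputable def adjT (i j : ℕ) : Bool :=
  [1, 10, 19, 28, 37, 30, 55].any fun e => Nat.beq e (8 * i + j) || Nat.beq e (8 * j + i)

theorem adjT_comm (i j : ℕ) : adjT i j = adjT j i := by simp only [adjT, Bool.or_comm]

/-- A coset fit to be the next position. -/
noncomputable def cand (pre : List Item) (c : ℕ) : Bool :=
  (List.range pre.length).all fun j =>
    (Nat.beq (trW (iW (item pre j)) c) c == !(adjT j pre.length)) && !(Nat.beq c (ipt (item pre j)))

/-- The items of a node are members and its generators fix the prefix. -/
noncomputable def headOK (T : TNode) : Bool :=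
  T.pre.all itemOK && (T.roots.all itemOK && (T.gens.all itemOK &&
    T.gens.all fun h => T.pre.all fun p => Nat.beq (trW (iW h) (ipt p)) (ipt p)))

/-- An entry of the forest is a root or comes from an earlier entry by a generator. -/
noncomputable def entOK (T : TNode) (i : ℕ) : Bool :=
  cond (Nat.beq (getP T.entJ i) T.gens.length)
    (Nat.blt (getP T.entP i) T.roots.length && Nat.beq (getP T.entC i) (ipt (item T.roots (getP T.entP i))))
    (Nat.blt (getP T.entJ i) T.gens.length && (Nat.blt (getP T.entP i) i &&
      Nat.beq (getP T.entC i) (trW (iW (item T.gens (getP T.entJ i))) (getP T.entC (getP T.entP i)))))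

/-- Each fit coset is in the forest. -/
noncomputable def covOK (T : TNode) (c : ℕ) : Bool :=
  cond (cand T.pre c) (Nat.blt (getP T.pos c) T.size && Nat.beq (getP T.entC (getP T.pos c)) c) true

/-- The check of a node. -/
noncomputable def nodeOK (T : TNode) : Bool :=
  headOK T && (forallFrom (entOK T) 0 T.size && forallFrom (covOK T) 0 3510)

/-- The nine members of a leaf satisfy the relators and lie over the leaf. -/
noncomputable def leafOK (l : List Item × List Item × List ℕ) : Bool :=
  l.2.1.all itemOK && ((List.range 9).all (fun x => Nat.beq x 6 ||
      (Nat.blt (l.2.2.getD x 0) 8 && decide (item l.1 (l.2.2.getD x 0) = item l.2.1 x))) &&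
    (Nat.beq l.2.1.length 9 &&
      (relWords Cfsg.Spor.Fi22.edges Cfsg.Spor.Fi22.extra Cfsg.Agent.S1687.gens).all fun w =>
        w.all (fun x => Nat.blt x 9) &&
          (List.range 13).all fun x =>
            Nat.beq (trW (w.flatMap fun y => iW (item l.2.1 y)) (basePt x)) (basePt x)))

end CfsgLib.Recog.FiM22.Tuple
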