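import Cfsg.Agent.Lib.Recog.FiM22.Tuple.Data

set_option autoImplicit false
set_option maxRecDepth 20000
set_option Elab.async false

/-! The checks of the search tree (owner: helper13). -/

namespace CfsgLib.Recog.FiM22.Tuple

open CfsgLib.ThreeTrans.CosetIndex (forallFrom)

theorem forallFrom_split {f : ℕ → Bool} (a b c : ℕ) (h1 : forallFrom f a b = true)
    (h2 : forallFrom f (a + b) c = true) : forallFrom f a (b + c) = true := by
  induction c with
  | zero => exact h1
  | succ k ih =>
    have h2' : (f (a + b + k) && forallFrom f (a + b) k) = true := h2
    rw [Bool.and_eq_true] at h2'
    show (f (a + (b + k)) && forallFrom f a (b + k)) = true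
    rw [← add_assoc, h2'.1, ih h2'.2]
    rfl

theorem head_checked_0 : headOK node0 = true := by decide +kernel

theorem ent0_0 : forallFrom (entOK node0) 0 704 = true := by decide +kernel

theorem ent0_1 : forallFrom (entOK node0) 704 704 = true := by decide +kernel

theorem ent0_2 : forallFrom (entOK node0) 1408 704 = true := by decide +kernel

theorem ent0_3 : forallFrom (entOK node0) 2112 704 = true := by decide +kernel

theorem cov0_0 : forallFrom (covOK node0) 0 585 = true := by decide +kernel

theorem cov0_1 : forallFrom (covOK node0) 585 585 = true := by decide +kernel

theorem cov0_2 : forallFrom (covOK node0) 1170 585 = true := by decide +kernel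

theorem cov0_3 : forallFrom (covOK node0) 1755 585 = true := by decide +kernel

theorem cov0_4 : forallFrom (covOK node0) 2340 585 = true := by decide +kernel

theorem cov0_5 : forallFrom (covOK node0) 2925 585 = true := by decide +kernel

theorem node_checked_0 : nodeOK node0 = true := by
  have h1 : forallFrom (entOK node0) 0 node0.size = true := (forallFrom_split 0 2112 704 (forallFrom_split 0 1408 704 (forallFrom_split 0 704 704 ent0_0 ent0_1) ent0_2) ent0_3)
  have h2 : forallFrom (covOK node0) 0 3510 = true := (forallFrom_split 0 2925 585 (forallFrom_split 0 2340 585 (forallFrom_split 0 1755 585 (forallFrom_split 0 1170 585 (forallFrom_split 0 585 585 cov0_0 cov0_1) cov0_2) cov0_3) cov0_4) cov0_5)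
  rw [nodeOK, head_checked_0, h1, h2]
  rfl

theorem node_checked_1 : nodeOK node1 = true := by decide +kernel

theorem node_checked_2 : nodeOK node2 = true := by decide +kernel

theorem node_checked_3 : nodeOK node3 = true := by decide +kernel

theorem node_checked_4 : nodeOK node4 = true := by decide +kernel

theorem node_checked_5 : nodeOK node5 = true := by decide +kernel

theorem node_checked_6 : nodeOK node6 = true := by decide +kernel

theorem node_checked_7 : nodeOK node7 = true := by decide +kernel

theorem node_checked_8 : nodeOK node8 = true := by decide +kernel

theorem node_checked_9 : nodeOK node9 = true := by decide +kernel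

theorem node_checked_10 : nodeOK node10 = true := by decide +kernel

theorem node_checked_11 : nodeOK node11 = true := by decide +kernel

theorem node_checked_12 : nodeOK node12 = true := by decide +kernel

theorem node_checked_13 : nodeOK node13 = true := by decide +kernel

theorem node_checked_14 : nodeOK node14 = true := by decide +kernel

theorem node_checked_small : (nodes.drop 1).all nodeOK = true := by
  simp only [nodes, List.drop_succ_cons, List.drop_zero, List.all_cons, List.all_nil, Bool.and_true,
    node_checked_1, node_checked_2, node_checked_3, node_checked_4, node_checked_5, node_checked_6, node_checked_7, node_checked_8, node_checked_9, node_checked_10, node_checked_11, node_checked_12, node_checked_13, node_checked_14]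

theorem leaf_checked : leaves.all leafOK = true := by decide +kernel

theorem start_checked : node0.pre = [([], 0)] := by decide

theorem tree_checked : nodes.all (fun T => T.roots.all fun r =>
    decide (T.pre ++ [r] ∈ nodes.map (·.pre) ∨ T.pre ++ [r] ∈ leaves.map (·.1))) = true := by decide +kernel

theorem length_checked : nodes.all (fun T => Nat.blt T.pre.length 8) = true ∧
    leaves.all (fun l => Nat.beq l.1.length 8) = true := by decide +kernel

end CfsgLib.Recog.FiM22.Tuple
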